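import Cfsg.Agent.S2544
import Cfsg.Agent.S0243
import Cfsg.Agent.S0157
import Cfsg.Agent.H53.HC.Orbit
import Cfsg.Agent.H681.DegBasic
import Cfsg.Agent.CharactersDeep.ExtUnique

/-!
# Three character degrees of `SL₃(q)` (helper326, for helper691, S4855)

* `sl3_st` : `q³ ∈ cd(PSL₃(q))`;
* `sl3_two` : `q² + q ∈ cd(PSL₃(q))`;
* `sl3_lin` : `q² + q + 1 ∈ cd(SL₃(q))` for `q ≥ 3`.
-/

set_option autoImplicit false
set_option linter.unusedSectionVars false

open scoped ComplexConjugate LinearAlgebra.Projectivization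
open Cfsg Matrix

namespace Cfsg.Agent.H326.T3

open Cfsg.Agent.H53.HC Cfsg.Agent.Characters MulAction Module

universe u

section St

variable {F : Type} [Field F] [Fintype F]

theorem finite_psl {F : Type u} [Field F] [Fintype F] : Finite (ProjectiveSpecialLinearGroup (Fin 3) F) := by
  unfold ProjectiveSpecialLinearGroup
  infer_instance

/-- `|PSL₃(q)| gcd (q - 1) = q³ (...)` -/
theorem exists_card {F : Type u} [Field F] [Fintype F] :
    Nat.card (ProjectiveSpecialLinearGroup (Fin 3) F) * (Nat.gcd 3 (Fintype.card F - 1) * (Fintype.card F - 1)) =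
      Fintype.card F ^ 3 * ((Fintype.card F ^ 3 - 1) * ((Fintype.card F ^ 2 - 1) * (Fintype.card F - 1))) := by
  have h := Cfsg.Agent.S0243.result (F := F) rfl 3 (by norm_num)
  have e : ∏ i : Fin 3, (Fintype.card F ^ 3 - Fintype.card F ^ (i : ℕ)) =
      Fintype.card F ^ 3 * ((Fintype.card F ^ 3 - 1) * ((Fintype.card F ^ 2 - 1) * (Fintype.card F - 1))) := by
    rw [Fin.prod_univ_three]
    have e0 : Fintype.card F ^ 3 - Fintype.card F ^ ((0 : Fin 3) : ℕ) = Fintype.card F ^ 3 - 1 := by simp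
    have e1 : Fintype.card F ^ 3 - Fintype.card F ^ ((1 : Fin 3) : ℕ) = Fintype.card F * (Fintype.card F ^ 2 - 1) := by
      rw [Nat.mul_sub, mul_one]
      congr 1
      · ring
      · simp
    have e2 : Fintype.card F ^ 3 - Fintype.card F ^ ((2 : Fin 3) : ℕ) = Fintype.card F ^ 2 * (Fintype.card F - 1) := by
      rw [Nat.mul_sub, mul_one]
      congr 1
    rw [e0, e1, e2]
    ring
  rw [e] at h
  rw [← h]
  ring

theorem not_dvd_sub_one {p n : ℕ} (hp : p.Prime) (h : p ∣ n) (hn : 0 < n) : ¬ p ∣ n - 1 := by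
  intro h1
  have h2 : p ∣ 1 := by
    have h3 := (Nat.dvd_sub h h1)
    rwa [Nat.sub_sub_self hn] at h3
  exact hp.one_lt.ne' (Nat.dvd_one.1 h2)

/-- the order of a Sylow subgroup in characteristic `p` -/
theorem card_sylow {F : Type u} [Field F] [Fintype F] (p : ℕ) [Fact p.Prime] [CharP F p]
    (P : Sylow p (ProjectiveSpecialLinearGroup (Fin 3) F)) : Nat.card P = Fintype.card F ^ 3 := by
  have hfin := finite_psl (F := F)
  have hp : p.Prime := Fact.out
  obtain ⟨k, -, hk⟩ := FiniteField.card F p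
  have hq : 1 < Fintype.card F := Fintype.one_lt_card
  have hpq : p ∣ Fintype.card F := by rw [hk]; exact dvd_pow_self _ k.ne_zero
  have h := exists_card (F := F)
  have n1 : ¬ p ∣ Fintype.card F - 1 := not_dvd_sub_one hp hpq (by omega)
  have n2 : ¬ p ∣ Fintype.card F ^ 2 - 1 := not_dvd_sub_one hp (hpq.trans (dvd_pow_self _ two_ne_zero)) (by positivity)
  have n3 : ¬ p ∣ Fintype.card F ^ 3 - 1 := not_dvd_sub_one hp (hpq.trans (dvd_pow_self _ three_ne_zero)) (by positivity)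
  have ng : ¬ p ∣ Nat.gcd 3 (Fintype.card F - 1) := fun h' => n1 (h'.trans (Nat.gcd_dvd_right _ _))
  have m1 : Nat.gcd 3 (Fintype.card F - 1) * (Fintype.card F - 1) ≠ 0 := by
    intro h0
    rcases Nat.mul_eq_zero.1 h0 with h0 | h0
    · rw [h0] at ng; exact ng (dvd_zero _)
    · rw [h0] at n1; exact n1 (dvd_zero _)
  have m2 : (Fintype.card F ^ 3 - 1) * ((Fintype.card F ^ 2 - 1) * (Fintype.card F - 1)) ≠ 0 := by
    intro h0
    rcases Nat.mul_eq_zero.1 h0 with h0 | h0
    · rw [h0] at n3; exact n3 (dvd_zero _)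
    rcases Nat.mul_eq_zero.1 h0 with h0 | h0
    · rw [h0] at n2; exact n2 (dvd_zero _)
    · rw [h0] at n1; exact n1 (dvd_zero _)
  have hf := congrArg (fun n => n.factorization p) h
  rw [Nat.factorization_mul Nat.card_pos.ne' m1, Nat.factorization_mul (by positivity) m2] at hf
  simp only [Finsupp.add_apply] at hf
  have z1 : (Nat.gcd 3 (Fintype.card F - 1) * (Fintype.card F - 1)).factorization p = 0 :=
    Nat.factorization_eq_zero_of_not_dvd (by rw [hp.dvd_mul]; tauto)
  have z2 : ((Fintype.card F ^ 3 - 1) * ((Fintype.card F ^ 2 - 1) * (Fintype.card F - 1))).factorization p = 0 :=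
    Nat.factorization_eq_zero_of_not_dvd (by rw [hp.dvd_mul, hp.dvd_mul]; tauto)
  rw [z1, z2, add_zero, add_zero] at hf
  have h4 : (Fintype.card F ^ 3).factorization p = k * 3 := by
    rw [hk, ← pow_mul, Nat.Prime.factorization_pow hp, Finsupp.single_eq_same]
  rw [P.card_eq_multiplicity, hf, h4, hk, ← pow_mul]

/-- **`q³ ∈ cd(PSL₃(q))`** -/
theorem sl3_st {F : Type} [Field F] [Fintype F] :
    Fintype.card F ^ 3 ∈ charDegrees (ProjectiveSpecialLinearGroup (Fin 3) F) := by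
  have hfin := finite_psl (F := F)
  obtain ⟨p, hchar⟩ := CharP.exists F
  have : Fact p.Prime := ⟨CharP.char_is_prime F p⟩
  obtain ⟨χ, hχ, h⟩ := Cfsg.Agent.S2544.result (F := F) p 3 (by norm_num)
  refine Cfsg.Agent.H681.DegBasic.mem_charDegrees.2 ⟨χ, hχ, ?_⟩
  rw [(h default).1, card_sylow]

theorem card_points {F : Type u} [Field F] [Fintype F] :
    Nat.card (ℙ F (Fin 3 → F)) = Fintype.card F ^ 2 + Fintype.card F + 1 := by
  rw [Projectivization.card_of_finrank F (Fin 3 → F) (n := 3) (by simp), Nat.card_eq_fintype_card]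
  simp [Finset.sum_range_succ]
  ring

/-- **`q² + q ∈ cd(PSL₃(q))`** -/
theorem sl3_two {F : Type} [Field F] [Fintype F] :
    Fintype.card F ^ 2 + Fintype.card F ∈ charDegrees (ProjectiveSpecialLinearGroup (Fin 3) F) := by
  have hfin := finite_psl (F := F)
  have hfin' : Finite (ℙ F (Fin 3 → F)) := by
    unfold Projectivization
    infer_instance
  have h2 : IsMultiplyPretransitive (ProjectiveSpecialLinearGroup (Fin 3) F) (ℙ F (Fin 3 → F)) 2 := by
    have h : IsMultiplyPretransitive (SpecialLinearGroup (Fin 3) F) (ℙ F (Fin 3 → F)) 2 := inferInstance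
    constructor
    intro x y
    obtain ⟨g, hg⟩ := h.exists_smul_eq x y
    refine ⟨QuotientGroup.mk g, ?_⟩
    rw [← hg]
    ext i
    rfl
  have htr : IsPretransitive (ProjectiveSpecialLinearGroup (Fin 3) F) (ℙ F (Fin 3 → F)) :=
    MulAction.isPretransitive_of_is_two_pretransitive
  have hc := card_points (F := F)
  have hq : 1 < Fintype.card F := Fintype.one_lt_card
  refine Cfsg.Agent.H681.DegBasic.mem_charDegrees.2 ⟨_, (Cfsg.Agent.S0157.result
    (G := ProjectiveSpecialLinearGroup (Fin 3) F) (ℙ F (Fin 3 → F)) (by rw [hc]; omega)).2 h2, ?_⟩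
  have h3 : fixedBy (ℙ F (Fin 3 → F)) (1 : ProjectiveSpecialLinearGroup (Fin 3) F) = Set.univ := by
    ext i
    simp
  rw [h3, Nat.card_univ, hc]
  push_cast
  ring

end St

/-! ### The character induced from a linear character of the stabiliser of a point -/

section Lin

variable {F : Type u} [Field F]

open Projectivization

/-- `g` acts on the line `ω` as the scalar `a` -/
def Eig (g : SpecialLinearGroup (Fin 3) F) (ω : ℙ F (Fin 3 → F)) (a : Fˣ) : Prop :=
  g • ω.rep = (a : F) • ω.rep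

theorem eig_mk {g : SpecialLinearGroup (Fin 3) F} {a : Fˣ} {v : Fin 3 → F} (hv : v ≠ 0) :
    Eig g (mk F v hv) a ↔ g • v = (a : F) • v := by
  obtain ⟨b, hb⟩ := exists_smul_eq_mk_rep F v hv
  unfold Eig
  rw [← hb]
  change g • ((b : F) • v) = (a : F) • ((b : F) • v) ↔ _
  rw [smul_comm g (b : F) v, smul_comm (a : F) (b : F) v]
  constructor
  · intro h
    have h1 := congrArg (fun w => ((b⁻¹ : Fˣ) : F) • w) h
    simpa [smul_smul] using h1
  · intro h
    rw [h]

theorem Eig.unique {g : SpecialLinearGroup (Fin 3) F} {ω : ℙ F (Fin 3 → F)} {a b : Fˣ} (h1 : Eig g ω a)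
    (h2 : Eig g ω b) : a = b := by
  unfold Eig at h1 h2
  rw [h1] at h2
  apply Units.ext
  by_contra hne
  have h3 : ((a : F) - b) • ω.rep = 0 := by rw [sub_smul, h2, sub_self]
  rcases smul_eq_zero.1 h3 with h4 | h4
  · exact hne (sub_eq_zero.1 h4)
  · exact ω.rep_nonzero h4

theorem Eig.mul {g h : SpecialLinearGroup (Fin 3) F} {ω : ℙ F (Fin 3 → F)} {a b : Fˣ} (h1 : Eig g ω a)
    (h2 : Eig h ω b) : Eig (g * h) ω (a * b) := by
  unfold Eig at *
  rw [mul_smul, h2, smul_comm g (b : F), h1, smul_smul, Units.val_mul, mul_comm]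

theorem eig_one (ω : ℙ F (Fin 3 → F)) : Eig 1 ω 1 := by
  unfold Eig
  rw [one_smul, Units.val_one, one_smul]

theorem eig_conj {x g : SpecialLinearGroup (Fin 3) F} {ω : ℙ F (Fin 3 → F)} {a : Fˣ} :
    Eig (x * g * x⁻¹) (x • ω) a ↔ Eig g ω a := by
  induction ω using Projectivization.ind with
  | _ v hv =>
  rw [smul_mk x hv, eig_mk, eig_mk, ← mul_smul, inv_mul_cancel_right, mul_smul, ← smul_comm x (a : F) v]
  constructor
  · intro h
    exact smul_left_cancel x h
  · intro h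
    rw [h]

theorem exists_eig {g : SpecialLinearGroup (Fin 3) F} {ω : ℙ F (Fin 3 → F)} (h : g • ω = ω) :
    ∃ a : Fˣ, Eig g ω a := by
  induction ω using Projectivization.ind with
  | _ v hv =>
  rw [smul_mk g hv, mk_eq_mk_iff] at h
  obtain ⟨a, ha⟩ := h
  exact ⟨a, (eig_mk hv).2 ha.symm⟩

theorem Eig.smul_eq {g : SpecialLinearGroup (Fin 3) F} {ω : ℙ F (Fin 3 → F)} {a : Fˣ} (h : Eig g ω a) :
    g • ω = ω := by
  induction ω using Projectivization.ind with
  | _ v hv =>
  rw [eig_mk] at h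
  rw [smul_mk g hv, mk_eq_mk_iff]
  exact ⟨a, h.symm⟩

open Classical in
/-- the local term -/
noncomputable def phi (θ : Fˣ →* ℂˣ) (g : SpecialLinearGroup (Fin 3) F) (ω : ℙ F (Fin 3 → F)) : ℂ :=
  if h : ∃ a : Fˣ, Eig g ω a then ((θ h.choose : ℂˣ) : ℂ) else 0

theorem phi_of (θ : Fˣ →* ℂˣ) {g : SpecialLinearGroup (Fin 3) F} {ω : ℙ F (Fin 3 → F)} {a : Fˣ} (h : Eig g ω a) :
    phi θ g ω = ((θ a : ℂˣ) : ℂ) := by
  unfold phi
  have h' : ∃ a : Fˣ, Eig g ω a := ⟨a, h⟩
  rw [dif_pos h', h'.choose_spec.unique h]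

theorem phi_conj (θ : Fˣ →* ℂˣ) (x g : SpecialLinearGroup (Fin 3) F) (ω : ℙ F (Fin 3 → F)) :
    phi θ (x * g * x⁻¹) (x • ω) = phi θ g ω := by
  by_cases h : ∃ a : Fˣ, Eig g ω a
  · obtain ⟨a, ha⟩ := h
    rw [phi_of θ ha, phi_of θ (eig_conj.2 ha)]
  · have h' : ¬ ∃ a : Fˣ, Eig (x * g * x⁻¹) (x • ω) a := by
      rintro ⟨a, ha⟩
      exact h ⟨a, eig_conj.1 ha⟩
    unfold phi
    rw [dif_neg h, dif_neg h']

theorem exists_eig_stab (ω : ℙ F (Fin 3 → F)) (g : stabilizer (SpecialLinearGroup (Fin 3) F) ω) :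
    ∃ a : Fˣ, Eig (g : SpecialLinearGroup (Fin 3) F) ω a := exists_eig (mem_stabilizer_iff.1 g.2)

/-- the scalar as a homomorphism -/
noncomputable def eigHom (ω : ℙ F (Fin 3 → F)) : stabilizer (SpecialLinearGroup (Fin 3) F) ω →* Fˣ where
  toFun g := (exists_eig_stab ω g).choose
  map_one' := (exists_eig_stab ω 1).choose_spec.unique (eig_one ω)
  map_mul' g h := (exists_eig_stab ω (g * h)).choose_spec.unique
    ((exists_eig_stab ω g).choose_spec.mul (exists_eig_stab ω h).choose_spec)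

theorem eigHom_spec (ω : ℙ F (Fin 3 → F)) (g : stabilizer (SpecialLinearGroup (Fin 3) F) ω) :
    Eig (g : SpecialLinearGroup (Fin 3) F) ω (eigHom ω g) := (exists_eig_stab ω g).choose_spec

theorem isIrr_stab (θ : Fˣ →* ℂˣ) (ω : ℙ F (Fin 3 → F)) :
    IsIrrCharacter (stabilizer (SpecialLinearGroup (Fin 3) F) ω) (stabFun (phi θ) ω) := by
  have h := Cfsg.Agent.CharactersDeep.ExtUnique.isIrr_mul_hom
    (Core.isIrr_one (G := stabilizer (SpecialLinearGroup (Fin 3) F) ω)) (θ.comp (eigHom ω))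
  convert h using 1
  ext g
  unfold stabFun
  rw [phi_of θ (eigHom_spec ω g)]
  simp

/-- the diagonal matrices `diag(t, 1, t⁻¹)` -/
def dg : Fˣ →* SpecialLinearGroup (Fin 3) F where
  toFun t := ⟨Matrix.diagonal ![(t : F), 1, ((t⁻¹ : Fˣ) : F)], by
    rw [Matrix.det_diagonal, Fin.prod_univ_three]
    simp⟩
  map_one' := by
    apply Matrix.SpecialLinearGroup.ext
    intro i j
    fin_cases i <;> fin_cases j <;> simp
  map_mul' s t := by
    apply Subtype.ext
    change Matrix.diagonal ![((s * t : Fˣ) : F), 1, (((s * t)⁻¹ : Fˣ) : F)] =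
      Matrix.diagonal ![(s : F), 1, ((s⁻¹ : Fˣ) : F)] * Matrix.diagonal ![(t : F), 1, ((t⁻¹ : Fˣ) : F)]
    rw [Matrix.diagonal_mul_diagonal]
    congr 1
    ext i
    fin_cases i
    · simp
    · simp
    · change (((s * t)⁻¹ : Fˣ) : F) = ((s⁻¹ : Fˣ) : F) * ((t⁻¹ : Fˣ) : F)
      rw [← Units.val_mul, mul_inv]

theorem e_ne (i : Fin 3) : (Pi.single i (1 : F) : Fin 3 → F) ≠ 0 := by
  intro h
  have := congrFun h i
  simp at this

theorem eig_dg_zero (t : Fˣ) : Eig (dg t) (mk F (Pi.single (0 : Fin 3) (1 : F)) (e_ne 0)) t := by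
  rw [eig_mk, Matrix.SpecialLinearGroup.smul_def]
  change Matrix.diagonal _ *ᵥ _ = _
  ext i
  rw [Matrix.mulVec_diagonal]
  fin_cases i <;> simp

theorem eig_dg_one (t : Fˣ) : Eig (dg t) (mk F (Pi.single (1 : Fin 3) (1 : F)) (e_ne 1)) 1 := by
  rw [eig_mk, Matrix.SpecialLinearGroup.smul_def]
  change Matrix.diagonal _ *ᵥ _ = _
  ext i
  rw [Matrix.mulVec_diagonal]
  fin_cases i <;> simp

theorem dg_injective : Function.Injective (dg (F := F)) := by
  intro s t h
  exact ((eig_dg_zero s).unique (h ▸ eig_dg_zero t))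

theorem mk_ne : (mk F (Pi.single (0 : Fin 3) (1 : F)) (e_ne 0) : ℙ F (Fin 3 → F)) ≠
    (mk F (Pi.single (1 : Fin 3) (1 : F)) (e_ne 1) : ℙ F (Fin 3 → F)) := by
  intro h
  rw [mk_eq_mk_iff] at h
  obtain ⟨a, ha⟩ := h
  have := congrFun ha 0
  simp at this

/-- **The character induced from `θ`.** -/
theorem isIrr_lin [Fintype F] [Fintype (SpecialLinearGroup (Fin 3) F)] [Fintype (ℙ F (Fin 3 → F))] {θ : Fˣ →* ℂˣ}
    (hθ : θ ≠ 1) : IsIrrCharacter (SpecialLinearGroup (Fin 3) F) (orbSum (phi θ)) := by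
  classical
  have h2 : IsMultiplyPretransitive (SpecialLinearGroup (Fin 3) F) (ℙ F (Fin 3 → F)) 2 := inferInstance
  have htr : IsPretransitive (SpecialLinearGroup (Fin 3) F) (ℙ F (Fin 3 → F)) :=
    MulAction.isPretransitive_of_is_two_pretransitive
  refine isIrr_orbSum (phi θ) (phi_conj θ) (mk F (Pi.single (0 : Fin 3) (1 : F)) (e_ne 0)) (isIrr_stab θ _) ?_
  intro ω hω
  obtain ⟨x, hx0, hx1⟩ := is_two_pretransitive_iff.1 h2 (mk_ne (F := F)) hω.symm
  let f : Fˣ →* SpecialLinearGroup (Fin 3) F := (MulAut.conj x).toMonoidHom.comp dg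
  have hf : Function.Injective f := (MulAut.conj x).injective.comp dg_injective
  have e0 : ∀ t, Eig (f t) (mk F (Pi.single (0 : Fin 3) (1 : F)) (e_ne 0)) t := by
    intro t
    have := (eig_conj (x := x)).2 (eig_dg_zero (F := F) t)
    rwa [hx0] at this
  have e1 : ∀ t, Eig (f t) ω 1 := by
    intro t
    have := (eig_conj (x := x)).2 (eig_dg_one (F := F) t)
    rwa [hx1] at this
  refine ⟨f.range, ?_, ?_, fun {_} => ?_⟩
  · rintro _ ⟨t, rfl⟩
    exact (e0 t).smul_eq
  · rintro _ ⟨t, rfl⟩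
    exact (e1 t).smul_eq
  · have h3 : ∑ l : f.range, phi θ (l : SpecialLinearGroup (Fin 3) F) (mk F (Pi.single (0 : Fin 3) (1 : F)) (e_ne 0)) *
        conj (phi θ (l : SpecialLinearGroup (Fin 3) F) ω) = ∑ t : Fˣ, ((θ t : ℂˣ) : ℂ) := by
      refine (Fintype.sum_equiv (MonoidHom.ofInjective hf).toEquiv _ _ ?_).symm
      intro t
      change _ = phi θ (f t) _ * conj (phi θ (f t) ω)
      rw [phi_of θ (e0 t), phi_of θ (e1 t)]
      simp
    rw [h3]
    refine sum_hom_units_eq_zero ((Units.coeHom ℂ).comp θ) ?_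
    intro h4
    apply hθ
    ext t
    have := DFunLike.congr_fun h4 t
    simpa using this

/-- **`q² + q + 1 ∈ cd(SL₃(q))`, `q ≥ 3`** -/
theorem sl3_lin {F : Type} [Field F] [Fintype F] (h3 : 3 ≤ Fintype.card F) :
    Fintype.card F ^ 2 + Fintype.card F + 1 ∈ charDegrees (SpecialLinearGroup (Fin 3) F) := by
  classical
  have hfin' : Finite (ℙ F (Fin 3 → F)) := by
    unfold Projectivization
    infer_instance
  letI : Fintype (ℙ F (Fin 3 → F)) := Fintype.ofFinite _
  obtain ⟨χ, hχ⟩ := MulChar.exists_mulChar_orderOf F (dvd_refl (Fintype.card F - 1))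
    (Complex.isPrimitiveRoot_exp (Fintype.card F - 1) (by omega))
  have hne : χ.toUnitHom ≠ 1 := by
    intro h
    have h1 : χ = 1 := by
      apply MulChar.ext
      intro a
      have := DFunLike.congr_fun h a
      have h2 := congrArg Units.val this
      rw [MulChar.one_apply_coe]
      simpa using h2
    rw [h1, orderOf_one] at hχ
    omega
  refine Cfsg.Agent.H681.DegBasic.mem_charDegrees.2 ⟨_, isIrr_lin hne, ?_⟩
  rw [orbSum_one]
  have h1 : ∀ ω : ℙ F (Fin 3 → F), phi χ.toUnitHom 1 ω = 1 := by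
    intro ω
    rw [phi_of _ (eig_one ω)]
    simp
  simp only [h1]
  rw [Finset.sum_const, nsmul_eq_mul, mul_one, Finset.card_univ, ← Nat.card_eq_fintype_card, card_points]

end Lin

end Cfsg.Agent.H326.T3
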