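import Cfsg.Agent.H892.MultOne
import Cfsg.Agent.Characters.Core

/-!
# Harish-Chandra induction of cuspidal data, abstractly (helper326)

`ρ` an irreducible representation of `G`, `av ρ Q` the projection to the fixed vectors of `Q`, `Q` normalised by `P`,
`av Q * ρ g * av Q = 0` for `g ∉ P` and `av Q ≠ 0`. Then

* `Hyp.trace_eq` : `|G| tr(av Q) = |P| dim V`;
* `Hyp.schur` : an endomorphism of `V^Q` commuting with `P` is a scalar;
* `Hyp.isIrr` : if `P` acts on `V^Q` as a group `M` times scalars then `V^Q` is irreducible for `M`.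
-/

set_option autoImplicit false
set_option linter.unusedSectionVars false

open Cfsg

namespace Cfsg.Agent.H326.T3

open Module Cfsg.Agent.H892.MultOne

variable {G : Type*} [Group G] [Finite G] {V : Type*} [AddCommGroup V] [Module ℂ V]
  (ρ : Representation ℂ G V)

open Classical in
/-- averaging over a subgroup -/
noncomputable def av (H : Subgroup G) : Module.End ℂ V :=
  letI : Fintype H := Fintype.ofFinite H
  (Nat.card H : ℂ)⁻¹ • ∑ h : H, ρ h

theorem av_eq (H : Subgroup G) [Fintype H] : av ρ H = (Nat.card H : ℂ)⁻¹ • ∑ h : H, ρ h := by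
  unfold av
  congr!

theorem card_ne (H : Subgroup G) : (Nat.card H : ℂ) ≠ 0 := Nat.cast_ne_zero.2 Nat.card_pos.ne'

theorem rho_mul_av {H : Subgroup G} {h : G} (hh : h ∈ H) : ρ h * av ρ H = av ρ H := by
  letI : Fintype H := Fintype.ofFinite H
  rw [av_eq, mul_smul_comm, Finset.mul_sum]
  congr 1
  refine Fintype.sum_equiv (Equiv.mulLeft (⟨h, hh⟩ : H)) _ _ fun k => ?_
  rw [Equiv.coe_mulLeft, ← map_mul]
  rfl

theorem av_mul_rho {H : Subgroup G} {h : G} (hh : h ∈ H) : av ρ H * ρ h = av ρ H := by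
  letI : Fintype H := Fintype.ofFinite H
  rw [av_eq, smul_mul_assoc, Finset.sum_mul]
  congr 1
  refine Fintype.sum_equiv (Equiv.mulRight (⟨h, hh⟩ : H)) _ _ fun k => ?_
  rw [Equiv.coe_mulRight, ← map_mul]
  rfl

/-- elements fixed by `H` from the left absorb `av H` -/
theorem av_mul_of {H : Subgroup G} {x : Module.End ℂ V} (h : ∀ h ∈ H, ρ h * x = x) : av ρ H * x = x := by
  letI : Fintype H := Fintype.ofFinite H
  rw [av_eq, smul_mul_assoc, Finset.sum_mul]
  have : ∀ k : H, ρ k * x = x := fun k => h k k.2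
  simp only [this]
  rw [Finset.sum_const, Finset.card_univ, ← Nat.card_eq_fintype_card, ← Nat.cast_smul_eq_nsmul ℂ, smul_smul,
    inv_mul_cancel₀ (card_ne H), one_smul]

theorem mul_av_of {H : Subgroup G} {x : Module.End ℂ V} (h : ∀ h ∈ H, x * ρ h = x) : x * av ρ H = x := by
  letI : Fintype H := Fintype.ofFinite H
  rw [av_eq, mul_smul_comm, Finset.mul_sum]
  have : ∀ k : H, x * ρ k = x := fun k => h k k.2
  simp only [this]
  rw [Finset.sum_const, Finset.card_univ, ← Nat.card_eq_fintype_card, ← Nat.cast_smul_eq_nsmul ℂ, smul_smul,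
    inv_mul_cancel₀ (card_ne H), one_smul]

theorem av_mul_av (H : Subgroup G) : av ρ H * av ρ H = av ρ H := av_mul_of ρ fun _ h => rho_mul_av ρ h

/-- conjugation -/
theorem rho_mul_av_of {H K : Subgroup G} {g : G} (h : ∀ x, x ∈ H ↔ g * x * g⁻¹ ∈ K) :
    ρ g * av ρ H = av ρ K * ρ g := by
  letI : Fintype H := Fintype.ofFinite H
  letI : Fintype K := Fintype.ofFinite K
  let e : H ≃ K :=
    { toFun := fun x => ⟨g * x * g⁻¹, (h _).1 x.2⟩
      invFun := fun y => ⟨g⁻¹ * y * g, (h _).2 (by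
        have : g * (g⁻¹ * (y : G) * g) * g⁻¹ = y := by group
        rw [this]; exact y.2)⟩
      left_inv := fun x => Subtype.ext (by
        show g⁻¹ * (g * (x : G) * g⁻¹) * g = x
        group)
      right_inv := fun x => Subtype.ext (by
        show g * (g⁻¹ * (x : G) * g) * g⁻¹ = x
        group) }
  have hc : Nat.card H = Nat.card K := Nat.card_congr e
  rw [av_eq, av_eq, mul_smul_comm, smul_mul_assoc, Finset.mul_sum, Finset.sum_mul, hc]
  congr 1
  refine Fintype.sum_equiv e _ _ fun x => ?_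
  rw [← map_mul, ← map_mul]
  congr 1
  show g * (x : G) = g * x * g⁻¹ * g
  group

/-- products of subgroups -/
theorem av_mul_av_of {H K R : Subgroup G} (hK : K ≤ H) (hR : R ≤ H) (hp : ∀ h ∈ H, ∃ k ∈ K, ∃ r ∈ R, h = k * r)
    (hn : ∀ r ∈ R, ∀ k, k ∈ K ↔ r * k * r⁻¹ ∈ K) : av ρ K * av ρ R = av ρ H := by
  have h1 : av ρ H * (av ρ K * av ρ R) = av ρ K * av ρ R := by
    apply av_mul_of
    intro h hh
    obtain ⟨k, hk, r, hr, rfl⟩ := hp h hh
    rw [map_mul, mul_assoc, ← mul_assoc (ρ r), rho_mul_av_of ρ (hn r hr), mul_assoc (av ρ K), rho_mul_av ρ hr,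
      ← mul_assoc, rho_mul_av ρ hk]
  have h2 : av ρ H * av ρ K = av ρ H := mul_av_of ρ fun k hk => av_mul_rho ρ (hK hk)
  have h3 : av ρ H * av ρ R = av ρ H := mul_av_of ρ fun k hk => av_mul_rho ρ (hR hk)
  rw [← h1, ← mul_assoc, h2, h3]

theorem trace_av [FiniteDimensional ℂ V] (H : Subgroup G) [Fintype H] (g : G) :
    LinearMap.trace ℂ V (ρ g * av ρ H) = (Nat.card H : ℂ)⁻¹ * ∑ h : H, ρ.character (g * h) := by
  rw [av_eq, mul_smul_comm, Finset.mul_sum, map_smul, map_sum, smul_eq_mul]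
  congr 1
  refine Finset.sum_congr rfl fun h _ => ?_
  rw [← map_mul]
  rfl

theorem eq_zero_of_trace [FiniteDimensional ℂ V] {e : Module.End ℂ V} (he : e * e = e)
    (h : LinearMap.trace ℂ V e = 0) : e = 0 := by
  have h1 := (LinearMap.IsIdempotentElem.isProj_range e he).trace
  rw [h, eq_comm, Nat.cast_eq_zero, Submodule.finrank_eq_zero, LinearMap.range_eq_bot] at h1
  exact h1

/-- the hypotheses -/
structure Hyp (Q P : Subgroup G) : Prop where
  irr : Irr ρ
  norm : ∀ p ∈ P, ∀ u, u ∈ Q ↔ p * u * p⁻¹ ∈ Q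
  out : ∀ g, g ∉ P → av ρ Q * ρ g * av ρ Q = 0
  ne : av ρ Q ≠ 0

namespace Hyp

variable {ρ} {Q P : Subgroup G}

theorem nontrivial (h : Hyp ρ Q P) : Nontrivial V := by
  by_contra hn
  rw [not_nontrivial_iff_subsingleton] at hn
  exact h.ne (LinearMap.ext fun v => Subsingleton.elim _ _)

theorem comm (h : Hyp ρ Q P) {p : G} (hp : p ∈ P) : ρ p * av ρ Q = av ρ Q * ρ p := rho_mul_av_of ρ (h.norm p hp)

/-- the sum of the conjugates of an endomorphism of `V^Q` commuting with `P` -/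
theorem key [Fintype G] (h : Hyp ρ Q P) {T : Module.End ℂ V} (h2 : T * av ρ Q = T)
    (hP : ∀ p ∈ P, ρ p * T = T * ρ p) :
    (∑ g : G, ρ g * T * ρ g⁻¹) * av ρ Q = (Nat.card P : ℂ) • T := by
  classical
  have h1 : ∀ g : G, ρ g * T * ρ g⁻¹ * av ρ Q = if g ∈ P then T else 0 := by
    intro g
    split_ifs with hg
    · rw [hP g hg, mul_assoc, mul_assoc, ← mul_assoc (ρ g), ← map_mul, mul_inv_cancel, map_one, one_mul, h2]
    · have h3 := h.out g⁻¹ (fun h' => hg (by simpa using P.inv_mem h'))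
      rw [← h2, mul_assoc, mul_assoc, mul_assoc, ← mul_assoc (av ρ Q), h3, mul_zero, mul_zero]
  rw [Finset.sum_mul]
  simp only [h1]
  rw [Finset.sum_ite, Finset.sum_const_zero, add_zero, Finset.sum_const, ← Nat.cast_smul_eq_nsmul ℂ]
  congr 2
  rw [Nat.card_eq_fintype_card, Fintype.card_subtype]

/-- sums of conjugates are scalars -/
theorem exists_scalar [Fintype G] [FiniteDimensional ℂ V] (h : Hyp ρ Q P) (T : Module.End ℂ V) :
    ∃ c : ℂ, (∑ g : G, ρ g * T * ρ g⁻¹) = c • (1 : Module.End ℂ V) := by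
  have := h.nontrivial
  obtain ⟨c, hc⟩ := Cfsg.Agent.H892.MultOne.schur ρ h.irr (∑ g : G, ρ g * T * ρ g⁻¹) (by
    intro x v
    have h1 : (∑ g : G, ρ g * T * ρ g⁻¹) * ρ x = ρ x * ∑ g : G, ρ g * T * ρ g⁻¹ := by
      have hx : ρ x * ρ x⁻¹ = 1 := by rw [← map_mul, mul_inv_cancel, map_one]
      rw [Finset.sum_mul, Finset.mul_sum]
      refine Fintype.sum_equiv (Equiv.mulLeft x⁻¹) _ _ fun g => ?_
      rw [Equiv.coe_mulLeft, map_mul ρ x⁻¹ g, mul_inv_rev, inv_inv, map_mul ρ g⁻¹ x]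
      simp only [mul_assoc]
      rw [← mul_assoc (ρ x) (ρ x⁻¹), hx, one_mul]
    exact DFunLike.congr_fun h1 v)
  refine ⟨c, LinearMap.ext fun v => ?_⟩
  rw [hc]
  rfl

/-- **Degrees.** -/
theorem trace_eq [FiniteDimensional ℂ V] (h : Hyp ρ Q P) :
    (Nat.card G : ℂ) * LinearMap.trace ℂ V (av ρ Q) = Nat.card P * finrank ℂ V := by
  letI := Fintype.ofFinite G
  obtain ⟨c, hc⟩ := h.exists_scalar (av ρ Q)
  have h1 := h.key (av_mul_av ρ Q) fun p hp => h.comm hp
  rw [hc, smul_mul_assoc, one_mul] at h1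
  have h2 : c = Nat.card P := by
    by_contra hne
    have h3 : (c - Nat.card P) • av ρ Q = 0 := by rw [sub_smul, h1, sub_self]
    rcases smul_eq_zero.1 h3 with h4 | h4
    · exact hne (sub_eq_zero.1 h4)
    · exact h.ne h4
  have h3 := congrArg (LinearMap.trace ℂ V) hc
  rw [map_sum, map_smul, LinearMap.trace_one, smul_eq_mul, h2] at h3
  rw [← h3]
  have h4 : ∀ g : G, LinearMap.trace ℂ V (ρ g * av ρ Q * ρ g⁻¹) = LinearMap.trace ℂ V (av ρ Q) := by
    intro g
    rw [LinearMap.trace_mul_comm, ← mul_assoc, ← map_mul, inv_mul_cancel, map_one, one_mul]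
  simp only [h4]
  rw [Finset.sum_const, Finset.card_univ, nsmul_eq_mul, Nat.card_eq_fintype_card]

/-- **Schur's lemma for `V^Q`.** -/
theorem schur [FiniteDimensional ℂ V] (h : Hyp ρ Q P) {T : Module.End ℂ V} (h2 : T * av ρ Q = T)
    (hP : ∀ p ∈ P, ρ p * T = T * ρ p) : ∃ c : ℂ, T = c • av ρ Q := by
  letI := Fintype.ofFinite G
  obtain ⟨c, hc⟩ := h.exists_scalar T
  have h1 := h.key h2 hP
  rw [hc, smul_mul_assoc, one_mul] at h1
  refine ⟨(Nat.card P : ℂ)⁻¹ * c, ?_⟩
  rw [mul_smul, h1, smul_smul, inv_mul_cancel₀ (card_ne P), one_smul]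

/-- `V^Q` is stable -/
theorem stable (h : Hyp ρ Q P) {p : G} (hp : p ∈ P) : ∀ w ∈ LinearMap.range (av ρ Q), ρ p w ∈ LinearMap.range (av ρ Q) := by
  rintro _ ⟨v, rfl⟩
  exact ⟨ρ p v, (DFunLike.congr_fun (h.comm hp) v).symm⟩

/-- the representation of `M` on `V^Q` -/
noncomputable def rep (h : Hyp ρ Q P) {M : Type*} [Group M] (i : M →* G) (hi : ∀ m, i m ∈ P) :
    Representation ℂ M (LinearMap.range (av ρ Q)) where
  toFun m := (ρ (i m)).restrict (h.stable (hi m))
  map_one' := by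
    apply LinearMap.ext
    rintro ⟨w, hw⟩
    apply Subtype.ext
    show ρ (i 1) w = w
    rw [map_one, map_one]
    rfl
  map_mul' m n := by
    apply LinearMap.ext
    rintro ⟨w, hw⟩
    apply Subtype.ext
    show ρ (i (m * n)) w = ρ (i m) (ρ (i n) w)
    rw [map_mul, map_mul]
    rfl

theorem rep_character [FiniteDimensional ℂ V] (h : Hyp ρ Q P) {M : Type*} [Group M] (i : M →* G) (hi : ∀ m, i m ∈ P) (m : M) :
    (h.rep i hi).character m = LinearMap.trace ℂ V (ρ (i m) * av ρ Q) := by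
  have hf : ∀ x, (ρ (i m) * av ρ Q) x ∈ LinearMap.range (av ρ Q) := fun x => h.stable (hi m) _ ⟨x, rfl⟩
  rw [← LinearMap.trace_restrict_eq_of_forall_mem _ _ hf]
  show LinearMap.trace ℂ _ ((ρ (i m)).restrict (h.stable (hi m))) = _
  congr 1
  apply LinearMap.ext
  rintro ⟨_, v, rfl⟩
  apply Subtype.ext
  show ρ (i m) (av ρ Q v) = ρ (i m) (av ρ Q (av ρ Q v))
  congr 1
  exact (DFunLike.congr_fun (av_mul_av ρ Q) v).symm

/-- **`V^Q` is irreducible.** -/
theorem isIrr [FiniteDimensional ℂ V] (h : Hyp ρ Q P) {M : Type*} [Group M] (i : M →* G) (hi : ∀ m, i m ∈ P)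
    (hs : ∀ p ∈ P, ∃ (m : M) (a : ℂ), ρ p * av ρ Q = a • (ρ (i m) * av ρ Q)) :
    IsIrrCharacter M (fun m => LinearMap.trace ℂ V (ρ (i m) * av ρ Q)) := by
  have e : (fun m => LinearMap.trace ℂ V (ρ (i m) * av ρ Q)) = (h.rep i hi).character := by
    ext m
    rw [rep_character]
  rw [e]
  apply Cfsg.Agent.Characters.Core.isIrrCharacter_of_rep
  have hne : LinearMap.range (av ρ Q) ≠ ⊥ := fun h' => h.ne (LinearMap.range_eq_bot.1 h')
  have : Nontrivial (Subrepresentation (h.rep i hi)) := by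
    refine ⟨⊥, ⊤, fun h' => ?_⟩
    have h1 : (⊥ : Submodule ℂ (LinearMap.range (av ρ Q))) = ⊤ := congrArg Subrepresentation.toSubmodule h'
    apply hne
    rw [Submodule.eq_bot_iff]
    intro w hw
    have h2 : (⟨w, hw⟩ : LinearMap.range (av ρ Q)) ∈ (⊤ : Submodule ℂ (LinearMap.range (av ρ Q))) := trivial
    rw [← h1, Submodule.mem_bot] at h2
    exact congrArg Subtype.val h2
  refine ⟨fun N => ?_⟩
  by_cases hN : N.toSubmodule = ⊥
  · left
    exact Subrepresentation.toSubmodule_injective hN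
  right
  apply Subrepresentation.toSubmodule_injective
  show N.toSubmodule = ⊤
  obtain ⟨⟨n, hn⟩, hnN, hn0⟩ := Submodule.exists_mem_ne_zero_of_ne_bot hN
  have hn0' : n ≠ 0 := fun h' => hn0 (Subtype.ext h')
  have hen : av ρ Q n = n := by
    obtain ⟨v, rfl⟩ := hn
    exact DFunLike.congr_fun (av_mul_av ρ Q) v
  -- the image of `N` in `V`
  let N' : Submodule ℂ V := N.toSubmodule.map (LinearMap.range (av ρ Q)).subtype
  have hnN' : n ∈ N' := ⟨⟨n, hn⟩, hnN, rfl⟩
  have hstab : ∀ m : M, ∀ w ∈ N', ρ (i m) w ∈ N' := by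
    rintro m _ ⟨w, hw, rfl⟩
    exact ⟨_, N.apply_mem_toSubmodule m hw, rfl⟩
  let S : Submodule ℂ V := Submodule.span ℂ (Set.range fun g : G => ρ g n)
  have hS : S = ⊤ := by
    rcases h.irr S (by
      intro g w hw
      have h1 : S ≤ S.comap (ρ g) := by
        rw [Submodule.span_le]
        rintro _ ⟨x, rfl⟩
        show ρ g (ρ x n) ∈ S
        have : ρ g (ρ x n) = ρ (g * x) n := by rw [map_mul]; rfl
        rw [this]
        exact Submodule.subset_span ⟨_, rfl⟩
      exact h1 hw) with h1 | h1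
    · exfalso
      have h2 : n ∈ S := Submodule.subset_span ⟨1, by simp⟩
      rw [h1, Submodule.mem_bot] at h2
      exact hn0' h2
    · exact h1
  have hSN : S ≤ N'.comap (av ρ Q) := by
    rw [Submodule.span_le]
    rintro _ ⟨g, rfl⟩
    show av ρ Q (ρ g n) ∈ N'
    by_cases hg : g ∈ P
    · have h1 : av ρ Q (ρ g n) = ρ g (av ρ Q n) := (DFunLike.congr_fun (h.comm hg) n).symm
      obtain ⟨m, a, hma⟩ := hs g hg
      have h2 := DFunLike.congr_fun hma n
      have h3 : ρ g (av ρ Q n) = a • ρ (i m) (av ρ Q n) := h2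
      rw [h1, h3, hen]
      exact N'.smul_mem _ (hstab m n hnN')
    · have h1 := DFunLike.congr_fun (h.out g hg) n
      have h2 : av ρ Q (ρ g (av ρ Q n)) = 0 := h1
      rw [hen] at h2
      rw [h2]
      exact N'.zero_mem
  rw [eq_top_iff]
  rintro ⟨w, v, rfl⟩ _
  have h1 : v ∈ S := by rw [hS]; trivial
  obtain ⟨x, hx, hx'⟩ := hSN h1
  have : (⟨av ρ Q v, ⟨v, rfl⟩⟩ : LinearMap.range (av ρ Q)) = x := Subtype.ext hx'.symm
  rw [this]
  exact hx

end Hyp

end Cfsg.Agent.H326.T3
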